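import Mathlib
import Cfsg.Agent.Lib.CharTheory.RelMcKay.GoodClasses

/-!
# Three characters over an invariant character

If the quotient has two nonconjugate elements with cyclic centralizers then at least three
irreducible characters lie over an invariant character.
-/

set_option autoImplicit false
set_option linter.style.haveILetI false

namespace Cfsg.Agent.Blocks.ThreeChars

open Cfsg.Agent.CharTheory.RelMcKay

universe u

variable {T : Type u} [Group T] [Finite T] {N : Subgroup T} [N.Normal] {θ : T → ℂ}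

/-- Extension to a pair inside one cyclic extension. -/
theorem ext_of_mem_one (hθ : Irr N θ) (hinv : ∀ g, Inv N θ g) {y x z : T}
    (hy : y ∈ one N z) (hx : x ∈ one N z) : Ext N θ y x := by
  obtain ⟨η, hη, he⟩ := exists_ext_one hθ (mem_normalizer_of_normal z) (hinv z)
  exact ⟨η, irr_of_restrict (le_pairSub N y x) (hη.chr.mono (pairSub_le (le_one N z) hy hx)) hθ he,
    he⟩

theorem three_le_card_over (hθ : Irr N θ) (hinv : ∀ g, Inv N θ g) {K : Type*} [Group K]
    (φ : T →* K) (hker : φ.ker = N) (hsurj : Function.Surjective φ)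
    (h : ∃ k₁ k₂ : K, k₁ ≠ 1 ∧ k₂ ≠ 1 ∧ ¬ IsConj k₁ k₂ ∧
      IsCyclic (Subgroup.centralizer ({k₁} : Set K)) ∧
      IsCyclic (Subgroup.centralizer ({k₂} : Set K))) :
    3 ≤ Nat.card {χ : Cfsg.IrrCharacter T // mult N (χ : T → ℂ) θ ≠ 0} := by
  classical
  rw [card_over hθ hinv]
  obtain ⟨k₁, k₂, h1, h2, h12, hc1, hc2⟩ := h
  obtain ⟨t₁, rfl⟩ := hsurj k₁
  obtain ⟨t₂, rfl⟩ := hsurj k₂
  let φ' : T ⧸ N →* K := QuotientGroup.lift N φ hker.ge
  have hconj : ∀ {x y : T}, ConjClasses.mk (x : T ⧸ N) = ConjClasses.mk (y : T ⧸ N) →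
      IsConj (φ x) (φ y) := fun {x y} e =>
    φ'.map_isConj (ConjClasses.mk_eq_mk_iff_isConj.1 e)
  have hgood : ∀ t : T, IsCyclic (Subgroup.centralizer ({φ t} : Set K)) →
      ∀ x : T, ConjClasses.mk (x : T ⧸ N) = ConjClasses.mk (t : T ⧸ N) → Good N θ x := by
    intro t ht x hx y hy
    obtain ⟨u, hu⟩ := isConj_iff.1 (hconj hx)
    haveI : IsCyclic (Subgroup.centralizer ({φ x} : Set K)) := by
      let f : Subgroup.centralizer ({φ x} : Set K) →* Subgroup.centralizer ({φ t} : Set K) :=
        ((MulAut.conj u).toMonoidHom.comp (Subgroup.subtype _)).codRestrict _ fun a => by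
          have ha := Subgroup.mem_centralizer_singleton_iff.1 a.2
          refine Subgroup.mem_centralizer_singleton_iff.2 ?_
          show u * (a : K) * u⁻¹ * φ t = φ t * (u * (a : K) * u⁻¹)
          rw [← hu]
          calc u * (a : K) * u⁻¹ * (u * φ x * u⁻¹) = u * ((a : K) * φ x) * u⁻¹ := by group
            _ = u * (φ x * (a : K)) * u⁻¹ := by rw [ha]
            _ = _ := by group
      refine isCyclic_of_injective f ?_
      · intro a b e
        exact Subtype.ext ((MulAut.conj u).injective (congrArg Subtype.val e))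
    obtain ⟨g, hg⟩ := IsCyclic.exists_generator (α := Subgroup.centralizer ({φ x} : Set K))
    obtain ⟨z, hz⟩ := hsurj (g : K)
    have hmem : ∀ w : T, φ w * φ x = φ x * φ w → w ∈ one N z := by
      intro w hw
      obtain ⟨i, hi⟩ := Subgroup.mem_zpowers_iff.1
        (hg ⟨φ w, Subgroup.mem_centralizer_singleton_iff.2 hw⟩)
      have h3 : φ (w * (z ^ i)⁻¹) = 1 := by
        rw [map_mul, map_inv, map_zpow, hz, ← SubgroupClass.coe_zpow, hi, mul_inv_cancel]
      rw [← inv_mul_cancel_right w (z ^ i)]
      exact (one N z).mul_mem (le_one N z (hker ▸ MonoidHom.mem_ker.2 h3))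
        ((one N z).zpow_mem (mem_one N z) i)
    refine ext_of_mem_one hθ hinv (hmem y ?_) (hmem x rfl)
    have h3 : φ (y * x * y⁻¹ * x⁻¹) = 1 := MonoidHom.mem_ker.1 (hker.symm ▸ hy)
    rw [map_mul, map_mul, map_mul, map_inv, map_inv, mul_inv_eq_one, mul_inv_eq_iff_eq_mul] at h3
    exact h3
  have hone : ∀ x : T, ConjClasses.mk (x : T ⧸ N) = ConjClasses.mk ((1 : T) : T ⧸ N) →
      Good N θ x := by
    intro x hx y _
    have h3 : x ∈ N := by
      rw [← hker, MonoidHom.mem_ker]
      have := hconj hx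
      rwa [map_one, isConj_one_left] at this
    exact ext_of_mem_one hθ hinv (mem_one N y) (le_one N y h3)
  haveI : Finite (GoodClass N θ) := Subtype.finite
  let f : Fin 3 → GoodClass N θ :=
    ![⟨_, hone⟩, ⟨_, hgood t₁ hc1⟩, ⟨_, hgood t₂ hc2⟩]
  have e01 : ConjClasses.mk ((1 : T) : T ⧸ N) ≠ ConjClasses.mk (t₁ : T ⧸ N) := fun e => h1 (by
    have := hconj e
    rwa [map_one, isConj_one_right] at this)
  have e02 : ConjClasses.mk ((1 : T) : T ⧸ N) ≠ ConjClasses.mk (t₂ : T ⧸ N) := fun e => h2 (by
    have := hconj e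
    rwa [map_one, isConj_one_right] at this)
  have e12 : ConjClasses.mk (t₁ : T ⧸ N) ≠ ConjClasses.mk (t₂ : T ⧸ N) := fun e => h12 (hconj e)
  have hf : Function.Injective f := by
    intro i j e
    have e' := congrArg Subtype.val e
    fin_cases i <;> fin_cases j
    all_goals first
      | rfl
      | exact absurd e' e01
      | exact absurd e'.symm e01
      | exact absurd e' e02
      | exact absurd e'.symm e02
      | exact absurd e' e12
      | exact absurd e'.symm e12
  simpa using Nat.card_le_card_of_injective f hf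

end Cfsg.Agent.Blocks.ThreeChars
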