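import Mathlib
import Cfsg.Prelude.Def_BlockRank
import Cfsg.Agent.BlockCharsA.DefectZeroVanish
import Cfsg.Agent.Lib.Characters.Kernel

/-!
# Characters of defect zero modulo a normal `p`-subgroup are independent on regular elements
-/

set_option autoImplicit false
set_option linter.style.haveILetI false

namespace Cfsg.Agent.Blocks.ThreeChars

open Cfsg.Agent.Characters Cfsg.Agent.Blocks

variable {G : Type*} [Group G] [Finite G] {p : ℕ}

theorem vanish (hp : p.Prime) {A : Subgroup G} [A.Normal] (χ : Cfsg.IrrCharacter G)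
    (hker : ∀ a ∈ A, (χ : G → ℂ) a = (χ : G → ℂ) 1)
    (hdeg : A.index.factorization p ≤ (Cfsg.charDegree (χ : G → ℂ)).factorization p) {g : G}
    (hg : p ∣ orderOf (g : G ⧸ A)) : (χ : G → ℂ) g = 0 := by
  obtain ⟨ψ, -, hψ, hirr⟩ := exists_deflate_quotient A (irr_isCharacter χ) hker
  rw [← hψ g]
  refine BlockCharsA.DefectZeroVanish.eq_zero_of_singular hp ⟨ψ, hirr χ.2⟩ ?_ hg
  have h1 : Cfsg.charDegree ψ = Cfsg.charDegree (χ : G → ℂ) := by
    rw [Cfsg.charDegree, Cfsg.charDegree, ← hψ 1]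
    rfl
  show p ^ _ ∣ Cfsg.charDegree ψ
  rw [h1, ← Subgroup.index_eq_card]
  exact (hp.pow_dvd_iff_le_factorization (charDegree_pos χ).ne').2 hdeg

theorem le_blockRank (hp : p.Prime) {A : Subgroup G} [A.Normal]
    {B : Set (Cfsg.IrrCharacter G)} {ι : Type*} [Finite ι] (S : ι → Cfsg.IrrCharacter G)
    (hS : Function.Injective S) (hB : ∀ i, S i ∈ B)
    (hker : ∀ i, ∀ a ∈ A, (S i : G → ℂ) a = (S i : G → ℂ) 1)
    (hdeg : ∀ i, A.index.factorization p ≤ (Cfsg.charDegree (S i : G → ℂ)).factorization p) :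
    Nat.card ι ≤ Cfsg.blockRank p B := by
  classical
  haveI := Fact.mk hp
  haveI := Fintype.ofFinite ι
  haveI := Fintype.ofFinite G
  haveI := Fintype.ofFinite (Cfsg.IrrCharacter G)
  have key : ∀ c : ι → ℂ, (∀ y : G, ¬ p ∣ orderOf y → ∑ i, c i * (S i : G → ℂ) y = 0) →
      ∀ g, ∑ i, c i * (S i : G → ℂ) g = 0 := by
    intro c hc g
    by_cases hs : p ∣ orderOf (g : G ⧸ A)
    · exact Finset.sum_eq_zero fun i _ => by rw [vanish hp (S i) (hker i) (hdeg i) hs, mul_zero]
    obtain ⟨x, y, hxy, hcom, ⟨k, hk⟩, hy⟩ := exists_ppart hp g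
    have hx : x ∈ A := by
      rw [← QuotientGroup.eq_one_iff, ← orderOf_eq_one_iff]
      set π := QuotientGroup.mk' A
      have h1 : orderOf (π x) ∣ p ^ k := hk ▸ orderOf_map_dvd π x
      have h2 : orderOf (π x) ∣ orderOf (π g) * orderOf y := by
        have e : π x = π g * (π y)⁻¹ := by rw [← hxy, map_mul, mul_inv_cancel_right]
        rw [e]
        refine ((Commute.inv_right ?_).orderOf_mul_dvd_lcm).trans ((Nat.lcm_dvd_mul _ _).trans ?_)
        · rw [← hxy]; exact (hcom.mul_left rfl).map π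
        · exact Nat.mul_dvd_mul_left _ (orderOf_inv (π y) ▸ orderOf_map_dvd π y)
      refine Nat.eq_one_of_dvd_coprimes ?_ h1 h2
      exact (Nat.Coprime.mul_right (hp.coprime_iff_not_dvd.2 hs) (hp.coprime_iff_not_dvd.2 hy)).pow_left k
    refine Eq.trans (Finset.sum_congr rfl fun i _ => ?_) (hc y hy)
    rw [← hxy, char_mul_of_eq_one (irr_isCharacter (S i)) (hker i x hx) y]
  let v : ι → Submodule.span ℂ
      ((fun χ : Cfsg.IrrCharacter G => Cfsg.pRegularPart p (χ : G → ℂ)) '' B) :=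
    fun i => ⟨_, Submodule.subset_span ⟨S i, hB i, rfl⟩⟩
  have hli : LinearIndependent ℂ v := by
    rw [Fintype.linearIndependent_iff]
    intro c hc i
    have h2 : ∀ y : G, ¬ p ∣ orderOf y → ∑ i, c i * (S i : G → ℂ) y = 0 := by
      intro y hy
      have := congrFun (congrArg Subtype.val hc) y
      simpa [v, Cfsg.pRegularPart, Cfsg.IsPRegular, hy, Finset.sum_apply] using this
    have h3 : ∑ i, c i • (S i : G → ℂ) = 0 := funext fun g => by
      simpa [Finset.sum_apply] using key c h2 g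
    have hl := (linearIndependent_irr (G := G)).comp S hS
    exact Fintype.linearIndependent_iff.1 hl c h3 i
  haveI : FiniteDimensional ℂ (Submodule.span ℂ
      ((fun χ : Cfsg.IrrCharacter G => Cfsg.pRegularPart p (χ : G → ℂ)) '' B)) :=
    FiniteDimensional.finiteDimensional_submodule _
  rw [Nat.card_eq_fintype_card]
  exact hli.fintype_card_le_finrank

end Cfsg.Agent.Blocks.ThreeChars
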