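import Mathlib
import Cfsg.Agent.Lib.Blocks.ThreeChars.Classes
import Cfsg.Agent.Lib.Blocks.ThreeChars.Rank
import Cfsg.Agent.Lib.Perm.TransCoprime.TwoIrreducible
import Cfsg.Agent.Lib.Blocks.NormalDefect
import Cfsg.Agent.Lib.Blocks.FongReynolds
import Cfsg.Agent.Lib.Blocks.NilpotentAbelian
import Cfsg.Agent.BlockCharsA.PairMax

/-!
# A transitive inertial group on an elementary abelian normal defect group gives three Brauer
characters
-/

set_option autoImplicit false
set_option linter.style.haveILetI false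
set_option linter.unusedSectionVars false

namespace Cfsg.Agent.Blocks.ThreeChars

open Cfsg.Agent.Characters Cfsg.Agent.Blocks Cfsg.Agent.CharTheory Cfsg.Agent.BlockCharsA
open Cfsg.Agent.BlockCharsA.NormalSupport Cfsg.Agent.Blocks.FongReynolds
open Cfsg.Agent.BlockCharsA.BrauerPairs Cfsg.Agent.BlockCharsA.PairLocal
open Cfsg.Agent.Perm.TransCoprime

universe u

variable {G : Type u} [Group G] [Finite G] {p : ℕ} {M : Ideal Cfsg.AlgInt}

theorem indFun_trivial [Fintype G] {T A : Subgroup G} [A.Normal] (hAT : A ≤ T) (ψ : T → ℂ)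
    (hψ : ∀ a : T, (a : G) ∈ A → ψ a = ψ 1) {a : G} (ha : a ∈ A) :
    Cfsg.indFun T ψ a = Cfsg.indFun T ψ 1 := by
  classical
  simp only [Cfsg.indFun]
  congr 1
  refine Finset.sum_congr rfl fun x _ => ?_
  have h1 : x⁻¹ * a * x ∈ A := by
    have := (inferInstance : A.Normal).conj_mem a ha x⁻¹
    rwa [inv_inv] at this
  rw [Cfsg.extendByZero, show x⁻¹ * a * x = ((⟨_, hAT h1⟩ : T) : G) from rfl,
    show x⁻¹ * 1 * x = ((1 : T) : G) by simp, Subtype.val_injective.extend_apply,
    Subtype.val_injective.extend_apply]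
  exact hψ _ h1

set_option maxHeartbeats 800000 in
theorem three_le_blockRank (hM : Cfsg.IsPModular p M) {B : Set (Cfsg.IrrCharacter G)}
    {A : Subgroup G} [A.Normal] (hD : Cfsg.IsDefectGroup p M B A)
    (hab : ∀ a ∈ A, ∀ c ∈ A, a * c = c * a) (hexp : ∀ a ∈ A, a ^ p = 1)
    {e : Set (Cfsg.IrrCharacter (Subgroup.centralizer (A : Set G)))}
    (hmax : Cfsg.IsMaximalBrauerPair p M B A e)
    (htr : ∀ a ∈ A, ∀ c ∈ A, a ≠ 1 → c ≠ 1 → ∃ w ∈ stab A e, w * a * w⁻¹ = c)
    (hA : 3 < Nat.card A) : 3 ≤ Cfsg.blockRank p B := by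
  classical
  haveI := fact_prime_of_pm hM
  haveI := Fintype.ofFinite G
  have hB := hmax.1.2.1
  haveI := Fintype.ofFinite (Subgroup.centralizer (A : Set G))
  have hAH : A ≤ Subgroup.centralizer (A : Set G) := fun a ha c hc => hab c hc a ha
  have hAp := isPGroup_defect hD
  have heblock : Cfsg.IsPBlock M e := hmax.1.1.2
  have hind : Cfsg.IsInducedBlock M (Subgroup.centralizer (A : Set G)) e B := by
    obtain ⟨b', hb', he, -, -⟩ := NilpotentAbelian.exists_of_pair hM hmax.1 hAH rfl
    have : b' = e := set_eq_of_blockCoeff fun h => by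
      have h1 := congrArg (fun z : MonoidAlgebra ℂ G => z.coeff (h : G)) he
      simpa [elF, coeff_inclEl_of_mem _ _ h.2, coeff_blockIdem] using h1
    rwa [this] at hb'
  set P := A.subgroupOf (Subgroup.centralizer (A : Set G)) with hP
  haveI : P.Normal := Subgroup.Normal.subgroupOf ‹A.Normal› (Subgroup.centralizer (A : Set G))
  have hedef : Cfsg.IsDefectGroup p M e P := by
    obtain ⟨E, hE⟩ := exists_defectGroup hM heblock
    have hle : P ≤ E := normal_le_defect hM (isPGroup_subgroupOf hAp hAH) heblock hE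
    obtain ⟨F, hF, hEF⟩ := exists_defect_le_of_induced hM hind hE
    obtain ⟨x, rfl⟩ := exists_defectGroup_conj_eq hM hB hD hF
    rwa [eq_of_le_of_card_le hle (by
      rw [← Subgroup.card_map_of_injective (Subgroup.centralizer (A : Set G)).subtype_injective,
        Nat.card_congr (Subgroup.subgroupOfEquivOfLe hAH).toEquiv, ← card_map_conj A x]
      exact Subgroup.card_le_of_le hEF)]
  have hfull : P ⊔ Subgroup.centralizer (P : Set (Subgroup.centralizer (A : Set G))) = ⊤ :=
    top_le_iff.1 (le_sup_of_le_right fun z _ => (mem_centralizer_subgroupOf hAH).2 z.2)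
  obtain ⟨θ, hθb, hθinv, hθdeg, -⟩ :=
    exists_canonical hfull hM (isPGroup_subgroupOf hAp hAH) heblock hedef
  obtain ⟨⟨θ₀, -, huniq⟩, -, -⟩ :=
    full_centralizer_block hfull hM (isPGroup_subgroupOf hAp hAH) heblock hedef
  have hθtriv : ∀ x ∈ P, (θ : (Subgroup.centralizer (A : Set G)) → ℂ) x = (θ : (Subgroup.centralizer (A : Set G)) → ℂ) 1 := fun x hx => by
    rw [← one_mul x]
    exact hθinv 1 x hx
  -- the stabiliser
  let T : Subgroup G :=
    { carrier := {g | Clifford.conjBy (Subgroup.centralizer (A : Set G)) g (θ : (Subgroup.centralizer (A : Set G)) → ℂ) = θ}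
      one_mem' := Clifford.conjBy_one (Subgroup.centralizer (A : Set G)) _
      mul_mem' := fun {a c} ha hc => by
        show Clifford.conjBy (Subgroup.centralizer (A : Set G)) (a * c) _ = _
        rw [← Clifford.conjBy_conjBy (Subgroup.centralizer (A : Set G)) c a, ha, hc]
      inv_mem' := fun {a} ha => by
        show Clifford.conjBy (Subgroup.centralizer (A : Set G)) a⁻¹ _ = _
        apply Clifford.conjBy_injective (Subgroup.centralizer (A : Set G)) a
        rw [Clifford.conjBy_conjBy, inv_mul_cancel, Clifford.conjBy_one, ha] }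
  have htrivconj : ∀ (g : G) (η : Cfsg.IrrCharacter (Subgroup.centralizer (A : Set G))),
      (∀ x ∈ P, (η : (Subgroup.centralizer (A : Set G)) → ℂ) x = (η : (Subgroup.centralizer (A : Set G)) → ℂ) 1) →
        ∀ x ∈ P, (conjIrr g η : (Subgroup.centralizer (A : Set G)) → ℂ) x = (conjIrr g η : (Subgroup.centralizer (A : Set G)) → ℂ) 1 := fun g η h x hx => by
    rw [coe_conjIrr, Clifford.conjBy_apply, Clifford.conjBy_at_one]
    exact h _ (Subgroup.mem_subgroupOf.2 ((inferInstance : A.Normal).conj_mem _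
      (Subgroup.mem_subgroupOf.1 hx) g))
  have hs : ∀ g, g ∈ T ↔ ∀ η ∈ e, conjIrr g η ∈ e := by
    intro g
    constructor
    · intro hg η hη
      have h1 : conjIrr g θ = θ := Subtype.ext hg
      exact mem_of_sameBlock hM heblock hθb
        (h1 ▸ sameBlock_conjIrr g (sameBlock_of_mem hM heblock hθb hη))
    · intro h
      have h2 : conjIrr g θ = θ₀ := huniq _ ⟨h θ hθb, htrivconj g θ hθtriv⟩
      have h3 : θ = θ₀ := huniq _ ⟨hθb, hθtriv⟩
      exact congrArg Subtype.val (h2.trans h3.symm)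
  have hstab : stab A e ≤ T := by
    intro g hg
    obtain ⟨χ', hχ', hc⟩ := (mem_stab.1 hg).2.2 θ hθb
    have h1 : conjIrr g χ' = θ := Subtype.ext (funext fun k => by
      rw [coe_conjIrr, Clifford.conjBy_apply]
      exact hc k _ rfl)
    have h2 : χ' = θ := by
      have hgi := htrivconj g⁻¹ θ hθtriv
      have e1 : conjIrr g⁻¹ θ = χ' := Subtype.ext (funext fun k => by
        rw [← h1, coe_conjIrr, coe_conjIrr, Clifford.conjBy_apply, Clifford.conjBy_apply]
        exact congrArg _ (Subtype.ext (by simp [mul_assoc])))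
      rw [e1] at hgi
      exact (huniq _ ⟨hχ', hgi⟩).trans (huniq _ ⟨hθb, hθtriv⟩).symm
    rw [h2] at h1
    exact congrArg Subtype.val h1
  have hHT : (Subgroup.centralizer (A : Set G)) ≤ T := fun a ha => funext fun n => by
    rw [Clifford.conjBy_apply, ← irr_isClassFunction θ n ⟨a, ha⟩]
    exact congrArg _ (Subtype.ext rfl)
  have hcovB : ∀ (χ' : Cfsg.IrrCharacter G) (η : Cfsg.IrrCharacter (Subgroup.centralizer (A : Set G))), η ∈ e →
      Cfsg.classInner (fun n : (Subgroup.centralizer (A : Set G)) => (χ' : G → ℂ) n) (η : (Subgroup.centralizer (A : Set G)) → ℂ) ≠ 0 → χ' ∈ B := by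
    intro χ' η hη hne
    have h := isInduced_of_covers hM hAp le_rfl heblock (isPBlock_blockOf M χ')
      (mem_blockOf_self hM χ') hη hne
    rw [isInduced_unique hM hind h]
    exact mem_blockOf_self hM χ'
  obtain ⟨χ₁, hχ₁⟩ := exists_over (G := G) θ
  have hHTidx : ¬ p ∣ (Subgroup.centralizer (A : Set G)).relIndex T := by
    obtain ⟨S⟩ : Nonempty (Sylow p T) := inferInstance
    have hSH : (S : Subgroup T) ≤ (Subgroup.centralizer (A : Set G)).subgroupOf T := fun s hsS => by
      obtain ⟨k, hk⟩ := IsPGroup.iff_orderOf.1 S.isPGroup' ⟨s, hsS⟩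
      rw [Subgroup.orderOf_mk] at hk
      refine Subgroup.mem_subgroupOf.2 (mem_of_stabilizes hM hD hAH le_rfl (hcovB χ₁ θ hθb hχ₁)
        hχ₁ (k := k) (by rw [← hk, ← Subgroup.orderOf_coe, pow_orderOf_eq_one]) ?_)
      rw [show conjIrr (s : G) θ = θ from Subtype.ext s.2]
      exact sameBlock_refl hM _
    exact fun h => S.not_dvd_index (h.trans (Subgroup.index_dvd_of_le hSH))
  -- inside the stabiliser
  set N := (Subgroup.centralizer (A : Set G)).subgroupOf T with hN
  haveI : N.Normal := Subgroup.Normal.subgroupOf (inferInstanceAs (Subgroup.centralizer (A : Set G)).Normal) T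
  haveI := Fintype.ofFinite T
  haveI := Fintype.ofFinite N
  set ε : N ≃* (Subgroup.centralizer (A : Set G)) := Subgroup.subgroupOfEquivOfLe hHT
  let θ' : T → ℂ := fun t => RelMcKay.ext0 (Subgroup.centralizer (A : Set G)) (θ : (Subgroup.centralizer (A : Set G)) → ℂ) (t : G)
  have hθ'app : ∀ n : N, θ' n = (θ : (Subgroup.centralizer (A : Set G)) → ℂ) (ε n) := fun n =>
    RelMcKay.ext0_apply (Subgroup.centralizer (A : Set G)) _ (Subgroup.mem_subgroupOf.1 n.2)
  have hθ' : RelMcKay.Irr N θ' := by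
    show Cfsg.IsIrrCharacter N _
    rw [show RelMcKay.res N θ' = (θ : (Subgroup.centralizer (A : Set G)) → ℂ) ∘ ε from funext hθ'app]
    exact (isIrrCharacter_comp_mulEquiv ε).2 θ.2
  have hθ'inv : ∀ g, RelMcKay.Inv N θ' g := fun g h hh => by
    have hh' : (h : G) ∈ Subgroup.centralizer (A : Set G) := Subgroup.mem_subgroupOf.1 hh
    have h1 := congrFun (show Clifford.conjBy (Subgroup.centralizer (A : Set G)) (g : G) (θ : (Subgroup.centralizer (A : Set G)) → ℂ) = θ from g.2) ⟨_, hh'⟩
    rw [Clifford.conjBy_apply] at h1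
    show RelMcKay.ext0 (Subgroup.centralizer (A : Set G)) (θ : (Subgroup.centralizer (A : Set G)) → ℂ) _ = RelMcKay.ext0 (Subgroup.centralizer (A : Set G)) (θ : (Subgroup.centralizer (A : Set G)) → ℂ) _
    rw [Subgroup.coe_mul, Subgroup.coe_mul, Subgroup.coe_inv,
      RelMcKay.ext0_apply (Subgroup.centralizer (A : Set G)) _ hh',
      RelMcKay.ext0_apply (Subgroup.centralizer (A : Set G)) _
      ((inferInstance : (Subgroup.centralizer (A : Set G)).Normal).conj_mem _ hh' (g : G))]
    exact h1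
  -- the group induced on `A`
  letI : CommGroup A :=
    { (inferInstance : Group A) with mul_comm := fun a c => Subtype.ext (hab a a.2 c c.2) }
  haveI : Module (ZMod p) (Additive A) := AddCommGroup.zmodModule fun a =>
    congrArg Additive.ofMul (Subtype.ext (hexp _ (Additive.toMul a).2) :
      (Additive.toMul a : A) ^ p = 1)
  let c : T →* MulAut A := (MulAut.conjNormal (H:=A)).comp T.subtype
  let L : T → (Additive A ≃ₗ[ZMod p] Additive A) := fun t =>
    (MulEquiv.toAdditive (c t)).toLinearEquiv fun r x => ZMod.map_smul (MulEquiv.toAdditive (c t)) r x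
  let ρ : T →* (Additive A ≃ₗ[ZMod p] Additive A) := MonoidHom.mk' L fun s t =>
    LinearEquiv.ext fun x =>
      (congrArg Additive.ofMul (DFunLike.congr_fun (map_mul c s t) (Additive.toMul x))).trans
        (LinearEquiv.mul_apply (L s) (L t) x).symm
  have hker : ρ.ker = N := by
    ext t
    rw [MonoidHom.mem_ker, Subgroup.mem_subgroupOf]
    constructor
    · intro h a ha
      have h1 : (t : G) * a * (t : G)⁻¹ = a := by
        have := congrArg (fun q => ((Additive.toMul q : A) : G))
          (LinearEquiv.congr_fun h (Additive.ofMul (⟨a, ha⟩ : A)))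
        exact this
      exact (mul_inv_eq_iff_eq_mul.1 h1).symm
    · intro h
      refine LinearEquiv.ext fun x => ?_
      show Additive.ofMul (c t (Additive.toMul x)) = x
      refine congrArg Additive.ofMul (Subtype.ext ?_)
      show (t : G) * ((Additive.toMul x : A) : G) * (t : G)⁻¹ = ((Additive.toMul x : A) : G)
      rw [← h _ (Additive.toMul x).2, mul_inv_cancel_right]
  have hcop : ¬ p ∣ Nat.card ρ.range := by
    rwa [← Subgroup.index_ker, hker]
  have hVA : Nat.card (Additive A) = Nat.card A := Nat.card_congr Additive.toMul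
  haveI : Nontrivial (Additive A) := Finite.one_lt_card_iff_nontrivial.1 (by omega)
  have hT : Perm.TransLinear.Trans ρ.range := by
    intro x y hx hy
    obtain ⟨w, hw, hwe⟩ := htr _ (Additive.toMul x).2 _ (Additive.toMul y).2
      (fun h => hx (congrArg Additive.ofMul (Subtype.ext h : (Additive.toMul x : A) = 1)))
      (fun h => hy (congrArg Additive.ofMul (Subtype.ext h : (Additive.toMul y : A) = 1)))
    exact ⟨⟨_, ⟨⟨w, hstab hw⟩, rfl⟩⟩, congrArg Additive.ofMul (Subtype.ext hwe :
      c ⟨w, hstab hw⟩ (Additive.toMul x) = Additive.toMul y)⟩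
  obtain ⟨k₁, k₂, h1, h2, h12, hi1, hi2⟩ := exists_two_irr hcop hT (by rw [hVA]; exact hA)
  have hcount : 3 ≤ Nat.card {χ : Cfsg.IrrCharacter T // RelMcKay.mult N (χ : T → ℂ) θ' ≠ 0} :=
    three_le_card_over hθ' hθ'inv ρ.rangeRestrict
      (by rw [MonoidHom.ker_rangeRestrict, hker]) ρ.rangeRestrict_surjective
      ⟨k₁, k₂, h1, h2, h12, isCyclic_centralizer hi1, isCyclic_centralizer hi2⟩
  -- the characters over `θ`
  set ι := {χ : Cfsg.IrrCharacter T // RelMcKay.mult N (χ : T → ℂ) θ' ≠ 0}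
  have hres : ∀ ψ : ι, ∃ m : ℂ, m ≠ 0 ∧
      ∀ n : (Subgroup.centralizer (A : Set G)), (ψ.1 : T → ℂ) ⟨n, hHT n.2⟩ = m * (θ : (Subgroup.centralizer (A : Set G)) → ℂ) n := by
    intro ψ
    have hne := ψ.2
    rw [RelMcKay.mult_eq] at hne
    have h := Clifford.restrict_eq_smul_of_invariant N ψ.1.2 hθ' hne
      fun g => funext fun n => hθ'inv g n n.2
    refine ⟨_, hne, fun n => ?_⟩
    have h3 := congrFun h (ε.symm n)
    rw [Pi.smul_apply, smul_eq_mul] at h3
    have e3 : RelMcKay.res N θ' (ε.symm n) = (θ : (Subgroup.centralizer (A : Set G)) → ℂ) n :=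
      (hθ'app _).trans (congrArg _ (ε.apply_symm_apply n))
    rw [e3] at h3
    exact h3
  have hcov : ∀ ψ : ι, CoversOnly hHT e (ψ.1 : T → ℂ) := fun ψ => by
    obtain ⟨m, hm, hmn⟩ := hres ψ
    refine (coversOnly_iff_constituent hs hHT ψ.1).2 ⟨θ, hθb, ?_⟩
    rw [show (fun n : (Subgroup.centralizer (A : Set G)) => (ψ.1 : T → ℂ) ⟨(n : G), hHT n.2⟩) = m • (θ : (Subgroup.centralizer (A : Set G)) → ℂ) from
      funext hmn, classInner_smul_left, classInner_irr, if_pos rfl, mul_one]
    exact hm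
  let S : ι → Cfsg.IrrCharacter G := fun ψ =>
    ⟨_, isIrr_indFun hM heblock hs hHT ψ.1 (hcov ψ)⟩
  have hSB : ∀ ψ, S ψ ∈ B := fun ψ => by
    obtain ⟨η, hη, hne⟩ := exists_constituent_indFun hM heblock hs hHT ψ.1 (hcov ψ)
    exact hcovB _ η hη hne
  refine hcount.trans (le_blockRank hM.1 (A := A) S (fun ψ ψ' h => Subtype.ext ?_) hSB
    (fun ψ a ha => ?_) fun ψ => ?_)
  · exact indFun_eq_imp hM heblock hs hHT _ _ (hcov ψ) (hcov ψ') (congrArg Subtype.val h)
  · obtain ⟨m, hm, hmn⟩ := hres ψ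
    refine indFun_trivial (hAH.trans hHT) _ (fun t ht => ?_) ha
    have e1 := hmn ⟨(t : G), hAH ht⟩
    rw [hθtriv _ (Subgroup.mem_subgroupOf.2 ht)] at e1
    exact e1.trans (hmn 1).symm
  · have h3 := degree_factorization_eq hM hB (hSB ψ)
    rw [height_zero_of_comm_normal_defect hM hB hD hab (hSB ψ), add_zero] at h3
    have h4 := factorization_index_add A p
    rw [card_defectGroup hM hB hD, hM.1.factorization_pow, Finsupp.single_eq_same] at h4
    omega

end Cfsg.Agent.Blocks.ThreeChars
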