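import Mathlib
import Cfsg.Agent.Lib.Blocks.ThreeChars.Over
import Cfsg.Agent.Lib.Blocks.OrbitCount
import Cfsg.Agent.S4607
import Cfsg.Agent.S4648
import Cfsg.Agent.S4733

/-!
# Elementary abelian normal defect groups of blocks with at most three characters, and cyclic ones
-/

set_option autoImplicit false
set_option linter.style.haveILetI false

namespace Cfsg.Agent.Blocks.ThreeChars

open Cfsg.Agent.Characters Cfsg.Agent.Blocks Cfsg.Agent.BlockCharsA
open Cfsg.Agent.BlockCharsA.BrauerPairs Cfsg.Agent.BlockCharsA.PairLocal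
open Cfsg.Agent.BlockCharsA.PairMax Cfsg.Agent.BlockCharsA.PairFusion
open Cfsg.Agent.BlockCharsA.PairCorr Cfsg.Agent.BlockCharsA.PairReceptive
open Cfsg.Agent.BlockCharsA.PairStab

universe u

variable {G : Type u} [Group G] [Finite G] {p : ℕ} {M : Ideal Cfsg.AlgInt}
  {B : Set (Cfsg.IrrCharacter G)} {P : Subgroup G}
  {e : Set (Cfsg.IrrCharacter (Subgroup.centralizer (P : Set G)))}

/-- Representatives of the orbits of the inertial group, and a bound on their number. -/
theorem exists_reps (hM : Cfsg.IsPModular p M) (hmax : Cfsg.IsMaximalBrauerPair p M B P e)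
    (hab : ∀ x ∈ P, ∀ y ∈ P, x * y = y * x) :
    ∃ R : Finset P, (∀ s : P, s ≠ 1 → ∃ r ∈ R, ∃ w ∈ stab P e, w * (r : G) * w⁻¹ = (s : G)) ∧
      Cfsg.blockRank p B + R.card ≤ Nat.card B := by
  classical
  haveI := fact_prime_of_pm hM
  haveI := Fintype.ofFinite G
  haveI := Fintype.ofFinite P
  let st : Setoid P :=
    { r := fun t s => ∃ v ∈ stab P e, v * (t : G) * v⁻¹ = (s : G)
      iseqv :=
        { refl := fun t => ⟨1, Subgroup.one_mem _, by simp⟩
          symm := by
            rintro t s ⟨v, hv, h⟩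
            exact ⟨v⁻¹, Subgroup.inv_mem _ hv, by rw [← h]; group⟩
          trans := by
            rintro t s r ⟨v, hv, h⟩ ⟨v', hv', h'⟩
            exact ⟨v' * v, Subgroup.mul_mem _ hv' hv, by rw [← h', ← h]; group⟩ } }
  let rep : P → P := fun t => (Quotient.mk st t).out
  set R : Finset P := Finset.univ.image rep
  have hcov : ∀ s : P, ∃ r ∈ R, ∃ v ∈ stab P e, v * (r : G) * v⁻¹ = (s : G) := fun s =>
    ⟨rep s, Finset.mem_image_of_mem _ (Finset.mem_univ _), Quotient.mk_out (s := st) s⟩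
  have hsep : ∀ r ∈ R, ∀ r' ∈ R, ∀ v ∈ stab P e, v * (r : G) * v⁻¹ = (r' : G) → r = r' := by
    intro r hr r' hr' v hv h
    obtain ⟨t, -, rfl⟩ := Finset.mem_image.1 hr
    obtain ⟨t', -, rfl⟩ := Finset.mem_image.1 hr'
    have h1 : Quotient.mk st (rep t) = Quotient.mk st (rep t') := Quotient.sound ⟨v, hv, h⟩
    simp only [rep, Quotient.out_eq] at h1
    simp only [rep, h1]
  have hex : ∀ t : P, ∃ f, Cfsg.SubpairLE p M (Subgroup.zpowers (t : G)) f P e := fun t => by
    obtain ⟨f, -, hf⟩ :=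
      exists_subpair hM _ (Subgroup.zpowers (t : G)) P e rfl hmax.1.1 (Subgroup.zpowers_le.2 t.2)
    exact ⟨f, hf⟩
  choose f hf using hex
  have hk := OrbitCount.card_eq_sum_orbit hM hmax hab f hf R hcov hsep
  have h1R : (1 : P) ∈ R := by
    obtain ⟨r, hr, v, -, hv⟩ := hcov 1
    rw [OneMemClass.coe_one, conj_eq_one_iff] at hv
    exact (Subtype.ext hv : r = 1) ▸ hr
  have hl1 : Cfsg.blockRank p (f 1) = Cfsg.blockRank p B := by
    obtain ⟨b, hb, -, hr, -⟩ := NilpotentAbelian.exists_of_pair hM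
      ((block_of_subpairLE hM (hf 1)).2 hmax.1) (Subgroup.zpowers_le.2
        (mem_centralizer_zpowers.2 (Subgroup.mem_centralizer_singleton_iff.2 rfl)))
      (LocalBlock.centralizer_eq_zpowers ((1 : P) : G))
    have htop : Subgroup.centralizer ({((1 : P) : G)} : Set G) = ⊤ :=
      eq_top_iff.2 fun z _ => Subgroup.mem_centralizer_singleton_iff.2 (by simp)
    rw [← hr, ← NilpotentAbelian.pullSet_top hM htop hb, NilpotentAbelian.blockRank_pullSet]
  refine ⟨R.erase 1, fun s hs => ?_, ?_⟩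
  · obtain ⟨r, hr, v, hv, h⟩ := hcov s
    refine ⟨r, Finset.mem_erase.2 ⟨fun h1 => hs (Subtype.ext ?_), hr⟩, v, hv, h⟩
    rw [← h, h1, OneMemClass.coe_one, mul_one, mul_inv_cancel]
  · rw [hk, ← Finset.add_sum_erase _ _ h1R, hl1, Finset.card_eq_sum_ones]
    exact add_le_add le_rfl (Finset.sum_le_sum fun r _ => NilpotentAbelian.blockRank_pos hM
      ((subpairLE_facts hM (hf r)).2 hmax.1.1).2)

/-- At most three characters force an elementary abelian normal defect group of order at most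
three. -/
theorem card_le_three (hM : Cfsg.IsPModular p M) (hB : Cfsg.IsPBlock M B) [P.Normal]
    (hD : Cfsg.IsDefectGroup p M B P) (hab : ∀ x ∈ P, ∀ y ∈ P, x * y = y * x)
    (hexp : ∀ x ∈ P, x ^ p = 1) (hk : Nat.card B ≤ 3) : Nat.card P ≤ 3 := by
  classical
  haveI := fact_prime_of_pm hM
  by_contra! hP
  obtain ⟨hle, -, h0⟩ := S4733.result p M hM B hB
  have hlk : Cfsg.blockRank p B ≠ Nat.card B := fun h => by
    rw [card_defectGroup hM hB hD, h0.2 h.symm, pow_zero] at hP
    omega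
  have hl0 := NilpotentAbelian.blockRank_pos hM hB
  rcases (show Nat.card B = 2 ∨ (Nat.card B = 3 ∧ (Cfsg.blockRank p B = 1 ∨ Cfsg.blockRank p B = 2))
    by omega) with h | ⟨h, hl | hl⟩
  · rw [(S4607.result p M hM B hB P hD).1 h] at hP
    omega
  · have h1 := (S4648.result p M hM B hB P hD (fun hb => by
      rw [hb, Subgroup.card_bot] at hP; omega) hl (by omega)).2.1
    omega
  · obtain ⟨e', hmax⟩ := exists_maximal_on hM hB hD
    obtain ⟨R, hR, hcard⟩ := exists_reps hM hmax hab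
    have := three_le_blockRank hM hD hab hexp hmax (fun a ha c hc ha1 hc1 => ?_) hP
    · omega
    obtain ⟨r, hr, v, hv, hva⟩ := hR ⟨a, ha⟩ fun hh => ha1 (congrArg Subtype.val hh)
    obtain ⟨r', hr', v', hv', hvc⟩ := hR ⟨c, hc⟩ fun hh => hc1 (congrArg Subtype.val hh)
    rw [Finset.card_le_one.1 (by omega) r' hr' r hr] at hvc
    refine ⟨v' * v⁻¹, Subgroup.mul_mem _ hv' (Subgroup.inv_mem _ hv), ?_⟩
    rw [show a = v * (r : G) * v⁻¹ from hva.symm, show c = v' * (r : G) * v'⁻¹ from hvc.symm]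
    group

/-- A cyclic defect group is bounded by the number of characters. -/
theorem card_le_cyclic (hM : Cfsg.IsPModular p M) (hmax : Cfsg.IsMaximalBrauerPair p M B P e)
    [IsCyclic P] : Nat.card P ≤ (Nat.card B - 1) * (p - 1) + 1 := by
  classical
  haveI := fact_prime_of_pm hM
  have hab : ∀ x ∈ P, ∀ y ∈ P, x * y = y * x := fun x hx y hy => by
    letI := IsCyclic.commGroup (α := P)
    exact congrArg Subtype.val (mul_comm (⟨x, hx⟩ : P) ⟨y, hy⟩)
  obtain ⟨R, hR, hcard⟩ := exists_reps hM hmax hab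
  have hl0 := NilpotentAbelian.blockRank_pos hM hmax.1.2.1
  set Γ := (autHom P e).range
  have hΓp : ¬ p ∣ Nat.card Γ := by
    intro h
    obtain ⟨⟨_, w, rfl⟩, hw⟩ := exists_prime_orderOf_dvd_card' p h
    rw [← Subgroup.orderOf_coe] at hw
    change orderOf (autHom P e w) = p at hw
    have h1 : autHom P e w ^ p = 1 := hw ▸ pow_orderOf_eq_one _
    rw [autHom_eq_one (S4648.mem_centralizer_of_pow hM hmax hab w h1), orderOf_one] at hw
    exact hM.1.ne_one hw.symm
  have hΓ : Nat.card Γ ≤ p - 1 := by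
    obtain ⟨m, hm⟩ := IsPGroup.iff_card.1 hmax.1.1.1
    have hd := Subgroup.card_subgroup_dvd_card Γ
    rw [IsCyclic.card_mulAut, hm] at hd
    have h1 : 1 ≤ p - 1 := by have := hM.1.two_le; omega
    rcases Nat.eq_zero_or_pos m with rfl | hm0
    · rw [pow_zero, Nat.totient_one] at hd
      exact (Nat.le_of_dvd one_pos hd).trans h1
    · rw [Nat.totient_prime_pow hM.1 hm0] at hd
      exact Nat.le_of_dvd h1 ((((hM.1.coprime_iff_not_dvd.2 hΓp).symm.pow_right _)).dvd_of_dvd_mul_left hd)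
  let F : Option (R × Γ) → P := fun o => o.elim 1 fun q => (q.2 : MulAut P) q.1
  have hF : Function.Surjective F := by
    intro s
    by_cases hs : s = 1
    · exact ⟨none, hs.symm⟩
    obtain ⟨r, hr, v, hv, h⟩ := hR s hs
    refine ⟨some (⟨r, hr⟩, ⟨autHom P e ⟨v, hv⟩, _, rfl⟩), Subtype.ext ?_⟩
    show ((autHom P e ⟨v, hv⟩ r : P) : G) = s
    rw [coe_autHom]
    exact h
  calc Nat.card P ≤ Nat.card (Option (R × Γ)) := Nat.card_le_card_of_surjective F hF
    _ = R.card * Nat.card Γ + 1 := by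
      rw [Finite.card_option, Nat.card_prod, Nat.card_eq_fintype_card, Fintype.card_coe]
    _ ≤ _ := by
      refine Nat.add_le_add_right (Nat.mul_le_mul ?_ hΓ) 1
      omega

end Cfsg.Agent.Blocks.ThreeChars
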